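import Cfsg.Agent.H95.J4T.Frame
import Cfsg.Agent.H94.FixCounts
import Cfsg.Agent.H90.Orbits
import Cfsg.Agent.H29.M22Facts.Model

/-!
# Facts on the Mathieu group needed for a frame, and the split centralizer of a pair element
-/

set_option autoImplicit false

open Subgroup Cfsg

namespace H95.J4T

/-- An involution of `M24` with a fixed point fixes exactly eight points. -/
theorem card_fix_eight {σ : Equiv.Perm GolayPt} (hσ : σ ∈ M24) (h2 : σ * σ = 1) (h1 : σ ≠ 1)
    {p : GolayPt} (hp : σ p = p) : Nat.card {x // σ x = x} = 8 := by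
  classical
  have ho : orderOf σ = 2 := orderOf_eq_prime (by rw [pow_two, h2]) h1
  rw [Nat.card_eq_fintype_card, Fintype.card_subtype]
  rcases H94.class_two_fix hσ ho with ⟨h, -⟩ | ⟨h, -⟩
  · exact h
  · have : p ∈ Finset.univ.filter fun x => σ x = x := by simp [hp]
    rw [Finset.card_eq_zero.1 h] at this
    simp at this

namespace Frame

variable {G : Type*} [Group G] {z : G} {V : Subgroup G} (F : Frame z V GolayPt)

theorem pair_transitive (hr : F.act.range = M24) (a b c d : GolayPt) (hab : a ≠ b) (hcd : c ≠ d) :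
    ∃ n : ↥(normalizer (V : Set G)),
      (F.act n a = c ∧ F.act n b = d) ∨ (F.act n a = d ∧ F.act n b = c) := by
  obtain ⟨σ, hσ, h1, h2⟩ := H90.exists_move2 hab hcd
  rw [← hr] at hσ
  obtain ⟨n, rfl⟩ := hσ
  exact ⟨n, Or.inl ⟨h1, h2⟩⟩

theorem commute_el_iff (n : ↥(normalizer (V : Set G))) {a b : GolayPt} (hab : a ≠ b) :
    (n : G) * F.el a b = F.el a b * n ↔
      (F.act n a = a ∧ F.act n b = b) ∨ (F.act n a = b ∧ F.act n b = a) := by
  constructor
  · intro h
    refine F.el_inj hab ?_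
    rw [← F.act_el, h, mul_inv_cancel_right]
  · intro h
    refine mul_inv_eq_iff_eq_mul.1 ?_
    rw [F.act_el]
    rcases h with ⟨h1, h2⟩ | ⟨h1, h2⟩
    · rw [h1, h2]
    · rw [h1, h2, F.el_symm]

/-- The centralizer of a pair element is `V` by the automorphism group of `M22`. -/
theorem split_centralizer [Finite G] (hr : F.act.range = M24) {a b : GolayPt} (hab : a ≠ b)
    (hle : centralizer ({F.el a b} : Set G) ≤ normalizer (V : Set G))
    {K : Subgroup G} (hKN : K ≤ normalizer (V : Set G)) (hKV : K ⊓ V = ⊥)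
    (hKsup : K ⊔ V = normalizer (V : Set G)) :
    ∃ L : Subgroup G, L ≤ centralizer ({F.el a b} : Set G) ∧ V ≤ centralizer ({F.el a b} : Set G) ∧
      L ⊓ V = ⊥ ∧ L ⊔ V = centralizer ({F.el a b} : Set G) ∧
      Nonempty (↥L ≃* MulAut ↥Spor.M22) := by
  classical
  set C := centralizer ({F.el a b} : Set G) with hC
  have hVC : V ≤ C := fun v hv => mem_centralizer_singleton_iff.2 (F.comm hv (F.mem a b))
  have hdec : ∀ n ∈ normalizer (V : Set G), ∃ k ∈ K, ∃ v ∈ V, k * v = n := by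
    intro n hn
    rw [← hKsup, ← SetLike.mem_coe, coe_mul_of_left_le_normalizer_right K V hKN] at hn
    obtain ⟨k, hk, v, hv, rfl⟩ := Set.mem_mul.1 hn
    exact ⟨k, hk, v, hv, rfl⟩
  refine ⟨K ⊓ C, inf_le_right, hVC, ?_, ?_, ?_⟩
  · rw [eq_bot_iff, ← hKV]
    exact inf_le_inf_right V inf_le_left
  · refine le_antisymm (sup_le inf_le_right hVC) fun c hc => ?_
    obtain ⟨k, hk, v, hv, rfl⟩ := hdec c (hle hc)
    have hkC : k ∈ C := by
      have := mul_mem hc (inv_mem (hVC hv))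
      rwa [mul_inv_cancel_right] at this
    exact mul_mem (mem_sup_left ⟨hk, hkC⟩) (mem_sup_right hv)
  -- `K` maps isomorphically onto `M24`; move the pair to the two special points
  obtain ⟨σ, hσ, h1, h2⟩ := H90.exists_move2 hab (show (none : GolayPt) ≠ some 0 by simp)
  let ι : ↥(K ⊓ C) →* ↥(normalizer (V : Set G)) :=
    inclusion (fun x hx => hKN hx.1)
  let f : ↥(K ⊓ C) →* Equiv.Perm GolayPt := (MulAut.conj σ).toMonoidHom.comp (F.act.comp ι)
  have hf : ∀ x, f x = σ * F.act (ι x) * σ⁻¹ := fun x => rfl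
  have hσa : σ.symm none = a := by rw [← h1]; simp
  have hσb : σ.symm (some 0) = b := by rw [← h2]; simp
  have hmem : ∀ x, f x ∈ H29.M22.A22 := by
    intro x
    refine H29.M22.mem_A22.2 ⟨?_, ?_⟩
    · rw [hf]
      exact mul_mem (mul_mem hσ (hr ▸ ⟨ι x, rfl⟩)) (inv_mem hσ)
    · rcases (F.commute_el_iff (ι x) hab).1 (mem_centralizer_singleton_iff.1 x.2.2) with
        ⟨e1, e2⟩ | ⟨e1, e2⟩
      · exact Or.inl ⟨by simp [hf, hσa, e1, h1], by simp [hf, hσb, e2, h2]⟩
      · exact Or.inr ⟨by simp [hf, hσa, e1, h2], by simp [hf, hσb, e2, h1]⟩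
  have hinj : Function.Injective f := by
    intro x y e
    have e' : F.act (ι x) = F.act (ι y) := by
      rw [hf, hf] at e
      exact mul_left_cancel (mul_right_cancel e)
    have h : F.act ((ι x)⁻¹ * ι y) = 1 := by rw [map_mul, map_inv, e', inv_mul_cancel]
    have hv := (F.act_eq_one_iff _).1 h
    have hk : (x : G)⁻¹ * y ∈ K ⊓ V := ⟨K.mul_mem (K.inv_mem x.2.1) y.2.1, hv⟩
    rw [hKV, mem_bot, inv_mul_eq_one] at hk
    exact Subtype.ext hk
  have hsurj : ∀ g ∈ H29.M22.A22, ∃ x, f x = g := by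
    intro g hg
    obtain ⟨hgM, hg'⟩ := H29.M22.mem_A22.1 hg
    obtain ⟨n, hn⟩ : σ⁻¹ * g * σ ∈ F.act.range := by
      rw [hr]; exact mul_mem (mul_mem (inv_mem hσ) hgM) hσ
    obtain ⟨k, hk, v, hv, hkv⟩ := hdec n n.2
    have hvN : v ∈ normalizer (V : Set G) := le_normalizer hv
    have hkn : F.act ⟨k, hKN hk⟩ = σ⁻¹ * g * σ := by
      rw [← hn, show n = ⟨k, hKN hk⟩ * ⟨v, hvN⟩ from Subtype.ext hkv.symm, map_mul,
        (F.act_eq_one_iff ⟨v, hvN⟩).2 hv, mul_one]
    have hkC : k ∈ C := by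
      refine mem_centralizer_singleton_iff.2 ((F.commute_el_iff ⟨k, hKN hk⟩ hab).2 ?_)
      rw [hkn]
      rcases hg' with ⟨g1, g2⟩ | ⟨g1, g2⟩
      · exact Or.inl ⟨by simp [h1, g1, hσa], by simp [h2, g2, hσb]⟩
      · exact Or.inr ⟨by simp [h1, g1, hσb], by simp [h2, g2, hσa]⟩
    refine ⟨⟨k, hk, hkC⟩, ?_⟩
    rw [hf, show ι ⟨k, hk, hkC⟩ = ⟨k, hKN hk⟩ from rfl, hkn]
    group
  let fA : ↥(K ⊓ C) →* ↥H29.M22.A22 := f.codRestrict _ hmem
  refine ⟨(MulEquiv.ofBijective fA ⟨fun x y e => hinj (congrArg (fun w : ↥H29.M22.A22 => (w : Equiv.Perm GolayPt)) e), fun g => ?_⟩).trans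
    H29.M22.autEquiv⟩
  obtain ⟨x, hx⟩ := hsurj g.1 g.2
  exact ⟨x, Subtype.ext hx⟩

end Frame

end H95.J4T
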