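import Cfsg.Agent.H95.J4T.Main

/-!
# The two orbits on `V`

If the point action is transitive on unordered pairs and the conjugates of `z` inside `V` are
conjugate under the normalizer, the orbits have lengths `1771` and `276`.
-/

set_option autoImplicit false

open Subgroup

namespace H95.J4T.Frame

variable {G : Type*} [Group G] {z : G} {V : Subgroup G} {Ω : Type*} (F : Frame z V Ω)

include F in
theorem two_mul_pairs :
    2 * {v : G | v ∈ V ∧ v ≠ 1 ∧ ¬ IsConj z v}.ncard = 552 := by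
  classical
  have : Finite Ω := F.finite
  have := Fintype.ofFinite Ω
  have h24 : Fintype.card Ω = 24 := by rw [← Nat.card_eq_fintype_card, F.card_pts]
  set S := (Finset.univ : Finset Ω).offDiag
  have hS : S.card = 552 := by
    rw [Finset.offDiag_card, Finset.card_univ, h24]
  have himg : ((S.image fun p => F.el p.1 p.2 : Finset G) : Set G) =
      {v : G | v ∈ V ∧ v ≠ 1 ∧ ¬ IsConj z v} := by
    ext v
    simp only [Finset.coe_image, Set.mem_image, Set.mem_ofPred_eq]
    constructor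
    · rintro ⟨p, hp, rfl⟩
      have hne := (Finset.mem_offDiag.1 (Finset.mem_coe.1 hp)).2.2
      exact ⟨F.mem _ _, F.ne_one _ _ hne, F.not_isConj _ _ hne⟩
    · rintro ⟨h1, h2, h3⟩
      obtain ⟨a, b, hab, rfl⟩ := F.pair v h1 h2 h3
      exact ⟨(a, b), Finset.mem_coe.2 (Finset.mem_offDiag.2 ⟨Finset.mem_univ _, Finset.mem_univ _, hab⟩), rfl⟩
  rw [← himg, Set.ncard_coe_finset, ← hS, mul_comm, Finset.card_eq_sum_card_image
    (fun p => F.el p.1 p.2) S]
  refine (Finset.sum_const_nat (m := 2) fun g hg => ?_).symm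
  obtain ⟨q, hq, rfl⟩ := Finset.mem_image.1 hg
  have hne := (Finset.mem_offDiag.1 hq).2.2
  rw [show (S.filter fun p => F.el p.1 p.2 = F.el q.1 q.2) = {q, (q.2, q.1)} from ?_,
    Finset.card_pair (fun e => hne (congrArg Prod.fst e))]
  ext p
  simp only [Finset.mem_filter, Finset.mem_insert, Finset.mem_singleton]
  constructor
  · rintro ⟨-, hpe⟩
    rcases F.el_inj hne hpe.symm with ⟨h1, h2⟩ | ⟨h1, h2⟩
    · exact Or.inl (Prod.ext h1 h2)
    · exact Or.inr (Prod.ext h1 h2)
  · rintro (rfl | rfl)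
    · exact ⟨hq, rfl⟩
    · exact ⟨Finset.mem_offDiag.2 ⟨Finset.mem_univ _, Finset.mem_univ _, hne.symm⟩, F.el_symm _ _⟩

include F in
theorem card_pairs : {v : G | v ∈ V ∧ v ≠ 1 ∧ ¬ IsConj z v}.ncard = 276 := by
  have := F.two_mul_pairs
  omega

include F in
theorem card_conj : {v : G | v ∈ V ∧ IsConj z v}.ncard = 1771 := by
  have hfin : (V : Set G).Finite := by
    have := F.finite_V
    exact Set.toFinite _
  have h1 : (V : Set G).ncard = 2 ^ 11 := by rw [← Nat.card_coe_set_eq]; exact F.card_V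
  have hset : (V : Set G) = insert 1 ({v : G | v ∈ V ∧ IsConj z v} ∪
      {v : G | v ∈ V ∧ v ≠ 1 ∧ ¬ IsConj z v}) := by
    ext v
    simp only [SetLike.mem_coe, Set.mem_insert_iff, Set.mem_union, Set.mem_ofPred_eq]
    constructor
    · intro h
      by_cases h1 : v = 1
      · exact Or.inl h1
      by_cases h2 : IsConj z v
      · exact Or.inr (Or.inl ⟨h, h2⟩)
      · exact Or.inr (Or.inr ⟨h, h1, h2⟩)
    · rintro (rfl | h | h)
      · exact one_mem _
      · exact h.1
      · exact h.1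
  set A := {v : G | v ∈ V ∧ IsConj z v} with hA
  set B := {v : G | v ∈ V ∧ v ≠ 1 ∧ ¬ IsConj z v} with hB
  have hAf : A.Finite := hfin.subset fun v h => h.1
  have hBf : B.Finite := hfin.subset fun v h => h.1
  have hd : Disjoint A B := Set.disjoint_left.2 fun v h h' => h'.2.2 h.2
  have hn1 : (1 : G) ∉ A ∪ B := by
    rintro (h | h)
    · exact F.isConj_ne_one h.2 rfl
    · exact h.2.1 rfl
  have hBc : B.ncard = 276 := F.card_pairs
  rw [hset, Set.ncard_insert_of_notMem hn1 (hAf.union hBf), Set.ncard_union_eq hd hAf hBf,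
    hBc] at h1
  omega

/-- The orbits of the normalizer on `V`. -/
theorem orbits
    (htr : ∀ a b c d : Ω, a ≠ b → c ≠ d → ∃ n : ↥(normalizer (V : Set G)),
      (F.act n a = c ∧ F.act n b = d) ∨ (F.act n a = d ∧ F.act n b = c))
    (hfus : ∀ v ∈ V, ∀ w ∈ V, IsConj z v → IsConj z w →
      ∃ n ∈ normalizer (V : Set G), n * v * n⁻¹ = w)
    {a b : Ω} (hab : a ≠ b) {z' : G} (hz' : z' ∈ V) (hzz : IsConj z z') :
    {v : G | ∃ n ∈ normalizer (V : Set G), n * z' * n⁻¹ = v}.ncard = 1771 ∧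
      {v : G | ∃ n ∈ normalizer (V : Set G), n * F.el a b * n⁻¹ = v}.ncard = 276 := by
  constructor
  · rw [← F.card_conj]
    congr 1
    ext v
    simp only [Set.mem_ofPred_eq]
    constructor
    · rintro ⟨n, hn, rfl⟩
      exact ⟨(mem_normalizer_iff.1 hn _).1 hz', hzz.trans (isConj_iff.2 ⟨n, rfl⟩)⟩
    · rintro ⟨hv, hvz⟩
      exact hfus z' hz' v hv hzz hvz
  · rw [← F.card_pairs]
    congr 1
    ext v
    simp only [Set.mem_ofPred_eq]
    constructor
    · rintro ⟨n, hn, rfl⟩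
      refine ⟨(mem_normalizer_iff.1 hn _).1 (F.mem a b),
        fun h => F.ne_one a b hab (conj_eq_one_iff.1 h), fun h => ?_⟩
      exact F.not_isConj a b hab (h.trans (isConj_iff.2 ⟨n⁻¹, by group⟩))
    · rintro ⟨hv, hv1, hvz⟩
      obtain ⟨c, d, hcd, rfl⟩ := F.pair v hv hv1 hvz
      obtain ⟨n, ⟨h1, h2⟩ | ⟨h1, h2⟩⟩ := htr a b c d hab hcd
      · exact ⟨n, n.2, by rw [F.act_el, h1, h2]⟩
      · exact ⟨n, n.2, by rw [F.act_el, h1, h2, F.el_symm]⟩

end H95.J4T.Frame
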