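import Cfsg.Agent.H69.J4.Main

/-!
# `V` is the only elementary subgroup of order two to the eleven in its normalizer
-/

set_option autoImplicit false

open Subgroup

namespace H95.J4T

theorem isPGroup_elementary {G : Type*} [Group G] {V : Subgroup G}
    (hV : Cfsg.IsElementaryAbelian 2 V) : IsPGroup 2 V := fun v =>
  ⟨1, Subtype.ext (by simpa using hV.2 (v : G) v.2)⟩

theorem eq_of_le_normalizer {G : Type*} [Group G] [Finite G] {z : G}
    (hJ : Cfsg.IsOfJankoFourTypeAt z) {V W : Subgroup G} (hV : Cfsg.IsElementaryAbelian 2 V)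
    (hVc : Nat.card V = 2 ^ 11) (hW : Cfsg.IsElementaryAbelian 2 W) (hWc : Nat.card W = 2 ^ 11)
    (hle : W ≤ normalizer (V : Set G)) : W = V := by
  obtain ⟨P, hJ⟩ := hJ
  haveI : Fact (Nat.Prime 2) := ⟨Nat.prime_two⟩
  have h := IsPGroup.to_sup_of_normal_right' (isPGroup_elementary hW) (isPGroup_elementary hV) hle
  obtain ⟨T, hT⟩ := h.exists_le_sylow
  obtain ⟨U, -, huniq⟩ := Cfsg.Agent.H69.J4.sylow_unique_elementary hJ T
  rw [huniq W ⟨le_sup_left.trans hT, hW, hWc⟩, huniq V ⟨le_sup_right.trans hT, hV, hVc⟩]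

end H95.J4T
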