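import Cfsg.Agent.H82.J4Cx.Main
import Cfsg.Agent.H95.J4T.Orbits
import Cfsg.Agent.H95.J4T.Mathieu
import Cfsg.Agent.H95.J4T.Uniq

/-!
# Assembly for a group of Janko-four type
-/

set_option autoImplicit false
set_option linter.unusedSectionVars false

open Subgroup Cfsg
open scoped Pointwise

namespace H95.J4T

variable {G : Type*} [Group G] [Finite G] {z : G} {V : Subgroup G}

theorem map_elementary {V : Subgroup G} (k : G) (hV : Cfsg.IsElementaryAbelian 2 V) :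
    Cfsg.IsElementaryAbelian 2 (V.map (MulAut.conj k).toMonoidHom) := by
  obtain ⟨⟨⟨hc⟩⟩, he⟩ := hV
  refine ⟨⟨⟨?_⟩⟩, ?_⟩
  · rintro ⟨_, u, hu, rfl⟩ ⟨_, v, hv, rfl⟩
    refine Subtype.ext ?_
    show (MulAut.conj k).toMonoidHom u * (MulAut.conj k).toMonoidHom v = _ * _
    rw [← map_mul, ← map_mul]
    exact congrArg _ (congrArg Subtype.val (hc ⟨u, hu⟩ ⟨v, hv⟩))
  · rintro _ ⟨u, hu, rfl⟩
    rw [← map_pow, he u hu, map_one]

theorem card_map (k : G) (V : Subgroup G) :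
    Nat.card ↥(V.map (MulAut.conj k).toMonoidHom) = Nat.card V :=
  (Nat.card_congr (V.equivMapOfInjective _ (MulAut.conj k).injective).toEquiv).symm

/-- Elements of `V` that are conjugate in `G` are conjugate in the normalizer. -/
theorem fusion (hJ : Cfsg.IsOfJankoFourTypeAt z) (hV : Cfsg.IsElementaryAbelian 2 V)
    (hVc : Nat.card V = 2 ^ 11) {v w : G} (hv : v ∈ V) (hw : w ∈ V) (h : IsConj v w) :
    ∃ n ∈ normalizer (V : Set G), n * v * n⁻¹ = w := by
  haveI : Fact (Nat.Prime 2) := ⟨Nat.prime_two⟩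
  obtain ⟨P, hJ⟩ := hJ
  obtain ⟨g, rfl⟩ := isConj_iff.1 h
  set C := centralizer ({g * v * g⁻¹} : Set G) with hC
  have hcomm : ∀ {u u'}, u ∈ V → u' ∈ V → Commute u u' := fun {u u'} hu hu' => by
    obtain ⟨⟨⟨hc⟩⟩, -⟩ := hV
    exact congrArg Subtype.val (hc ⟨u, hu⟩ ⟨u', hu'⟩)
  set W := V.map (MulAut.conj g).toMonoidHom with hW
  have hVC : V ≤ C := fun u hu => mem_centralizer_singleton_iff.2 (hcomm hu hw).eq
  have hWC : W ≤ C := by
    rintro _ ⟨u, hu, rfl⟩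
    exact mem_centralizer_singleton_iff.2 ((hcomm hu hv).map (MulAut.conj g).toMonoidHom).eq
  obtain ⟨P1, hP1⟩ := ((isPGroup_elementary hV).of_equiv
    (subgroupOfEquivOfLe hVC).symm).exists_le_sylow
  obtain ⟨P2, hP2⟩ := ((isPGroup_elementary (map_elementary g hV)).of_equiv
    (subgroupOfEquivOfLe hWC).symm).exists_le_sylow
  obtain ⟨c, hc⟩ := MulAction.exists_smul_eq C P2 P1
  obtain ⟨T, hT⟩ := (P1.isPGroup'.map C.subtype).exists_le_sylow
  obtain ⟨U, -, huniq⟩ := Cfsg.Agent.H69.J4.sylow_unique_elementary hJ T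
  have hWT : W.map (MulAut.conj (c : G)).toMonoidHom ≤ (T : Subgroup G) := by
    rintro _ ⟨u, hu, rfl⟩
    refine hT ⟨c * ⟨u, hWC hu⟩ * c⁻¹, ?_, rfl⟩
    have hm : (c * ⟨u, hWC hu⟩ * c⁻¹ : C) ∈ ((c • P2 : Sylow 2 C) : Subgroup C) := by
      show _ ∈ MulAut.conj c • (P2 : Subgroup C)
      exact Subgroup.smul_mem_pointwise_smul _ _ _ (hP2 (show (⟨u, hWC hu⟩ : C) ∈ W.subgroupOf C
        from hu))
    rwa [hc] at hm
  have hVT : V ≤ (T : Subgroup G) := fun u hu => hT ⟨⟨u, hVC hu⟩, hP1 hu, rfl⟩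
  have heq : W.map (MulAut.conj (c : G)).toMonoidHom = V := by
    rw [huniq V ⟨hVT, hV, hVc⟩]
    exact huniq _ ⟨hWT, map_elementary _ (map_elementary _ hV), by rw [card_map, card_map, hVc]⟩
  refine ⟨(c : G) * g, ?_, ?_⟩
  · have hmem : ∀ u, u ∈ V → (c : G) * g * u * ((c : G) * g)⁻¹ ∈ V := fun u hu => by
      rw [← heq]
      exact ⟨_, ⟨u, hu, rfl⟩, by simp [mul_assoc]⟩
    rw [mem_normalizer_iff]
    refine fun u => ⟨hmem u, fun hu => ?_⟩
    rw [← heq] at hu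
    obtain ⟨_, ⟨u', hu', rfl⟩, e⟩ := hu
    have e' : (c : G) * g * u' * ((c : G) * g)⁻¹ = (c : G) * g * u * ((c : G) * g)⁻¹ := by
      rw [← e]; simp [mul_assoc]
    exact mul_left_cancel (mul_right_cancel e') ▸ hu'
  · have : (c : G) * (g * v * g⁻¹) = g * v * g⁻¹ * c := mem_centralizer_singleton_iff.1 c.2
    calc (c : G) * g * v * ((c : G) * g)⁻¹ = (c : G) * (g * v * g⁻¹) * (c : G)⁻¹ := by group
      _ = g * v * g⁻¹ := by rw [this, mul_inv_cancel_right]

variable [IsSimpleGroup G]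

theorem setup (hG : ¬ IsMulCommutative G) (hJ : Cfsg.IsOfJankoFourTypeAt z)
    (F : Frame z V GolayPt) : Setup F where
  hH := by
    obtain ⟨P, hJ'⟩ := hJ
    intro x hx t ht hxz ht1 htz
    exact H82.J4Cx.inf_le_normalizer hG hJ' F.elem F.card_V hx ht ht1 hxz htz
  hW W h1 h2 h3 := eq_of_le_normalizer hJ F.elem F.card_V h1 h2 h3

/-- The two orbits and the centralizer of the second kind. -/
theorem orbit_statement (hG : ¬ IsMulCommutative G) (hJ : Cfsg.IsOfJankoFourTypeAt z)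
    (F : Frame z V GolayPt) (hr : F.act.range = M24) :
    ∃ z' t : G, z' ∈ V ∧ t ∈ V ∧ t ≠ 1 ∧ IsConj z z' ∧ ¬ IsConj z t ∧
      Set.ncard {v : G | ∃ n ∈ normalizer (V : Set G), n * z' * n⁻¹ = v} = 1771 ∧
      Set.ncard {v : G | ∃ n ∈ normalizer (V : Set G), n * t * n⁻¹ = v} = 276 ∧
      centralizer ({t} : Set G) ≤ normalizer (V : Set G) := by
  let a : GolayPt := none
  let b : GolayPt := some 0
  have hab : a ≠ b := by decide
  have h1 : IsConj z (F.el a b * F.el (some 1) (some 2)) :=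
    F.isConj _ _ _ _ hab (by decide) (by decide) (by decide) (by decide) (by decide)
  have hv := mul_mem (F.mem a b) (F.mem (some 1) (some 2))
  obtain ⟨o1, o2⟩ := F.orbits (F.pair_transitive hr)
    (fun v hv w hw hvz hwz => fusion hJ F.elem F.card_V hv hw (hvz.symm.trans hwz)) hab hv h1
  exact ⟨_, F.el a b, hv, F.mem a b, F.ne_one a b hab, h1, F.not_isConj a b hab, o1, o2,
    centralizer_le (setup hG hJ F) hab⟩

/-- The centralizer of an element of `V` not conjugate to `z`. -/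
theorem centralizer_statement (hG : ¬ IsMulCommutative G) (hJ : Cfsg.IsOfJankoFourTypeAt z)
    (F : Frame z V GolayPt) (hr : F.act.range = M24) {K : Subgroup G}
    (hKN : K ≤ normalizer (V : Set G)) (hKV : K ⊓ V = ⊥) (hKsup : K ⊔ V = normalizer (V : Set G))
    {t : G} (ht : t ∈ V) (ht1 : t ≠ 1) (htz : ¬ IsConj z t) :
    ∃ V K : Subgroup G, V ≤ centralizer ({t} : Set G) ∧ K ≤ centralizer ({t} : Set G) ∧
      centralizer ({t} : Set G) ≤ normalizer (V : Set G) ∧ Cfsg.IsElementaryAbelian 2 V ∧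
      Nat.card ↥V = 2 ^ 11 ∧ K ⊓ V = ⊥ ∧ K ⊔ V = centralizer ({t} : Set G) ∧
      Nonempty (↥K ≃* MulAut ↥Cfsg.Spor.M22) := by
  obtain ⟨a, b, hab, rfl⟩ := F.pair t ht ht1 htz
  have hle := centralizer_le (setup hG hJ F) hab
  obtain ⟨L, h1, h2, h3, h4, h5⟩ := F.split_centralizer hr hab hle hKN hKV hKsup
  exact ⟨V, L, h2, h1, hle, F.elem, F.card_V, h3, h4, h5⟩

end H95.J4T
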