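import Cfsg.Agent.H38.FiM24.Act
import Cfsg.Agent.H95.J4T.Mathieu

/-!
# A frame from pair labels
-/

set_option autoImplicit false

open Subgroup Cfsg H73.FiM24

namespace H95.J4T

variable {G : Type*} [Group G] [Finite G] {z : G} {V : Subgroup G}

theorem frame_of_labels (hV : Cfsg.IsElementaryAbelian 2 V) (hVc : Nat.card V = 2 ^ 11) (hz : z ≠ 1)
    (hcent : centralizer (V : Set G) ≤ V)
    {W α : Type*} [AddCommGroup W] [Fintype W] [DecidableEq W] [Fintype α] [DecidableEq α]
    (L : PairLabels W α) (φ : ↥V → W) (hφ : ∀ a b, φ (a * b) = φ a + φ b)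
    (hbij : Function.Bijective φ)
    (hT : ∀ v : ↥V, ((v : G) ≠ 1 ∧ ¬ IsConj z (v : G)) ↔ ∃ p q, p ≠ q ∧ φ v = L.t p q) :
    ∃ F : Frame z V GolayPt,
      F.act.range ≤ M24 ∧
        (Nat.card ↥(normalizer (V : Set G)) = 2 ^ 11 * Nat.card ↥M24 → F.act.range = M24) := by
  classical
  let ψ := Equiv.ofBijective φ hbij
  have hψ : ∀ w, φ (ψ.symm w) = w := fun w => ψ.apply_symm_apply w
  have hψ' : ∀ v, ψ.symm (φ v) = v := fun v => ψ.symm_apply_apply v
  have hφ1 : φ 1 = 0 := by
    have h : φ (1 : ↥V) + φ 1 = φ 1 + 0 := by rw [← hφ, mul_one, add_zero]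
    exact add_left_cancel h
  have hadd : ∀ u w, ψ.symm (u + w) = ψ.symm u * ψ.symm w := fun u w =>
    hbij.1 (by rw [hψ, hφ, hψ, hψ])
  let cj : ↥(normalizer (V : Set G)) → ↥V → ↥V := fun m a =>
    ⟨m * a * (m : G)⁻¹, (mem_normalizer_iff.1 m.2 _).1 a.2⟩
  have hcjm : ∀ m a b, cj m (a * b) = cj m a * cj m b := fun m a b =>
    Subtype.ext (by simp [cj, mul_assoc])
  let lin : ↥(normalizer (V : Set G)) → W →+ W := fun m =>
    AddMonoidHom.mk' (fun w => φ (cj m (ψ.symm w))) fun u w => by rw [hadd, hcjm, hφ]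
  have hlin : ∀ m w, lin m w = φ (cj m (ψ.symm w)) := fun m w => rfl
  have h1 : ∀ w, lin 1 w = w := fun w => by
    rw [hlin, show cj 1 (ψ.symm w) = ψ.symm w from Subtype.ext (by simp [cj]), hψ]
  have hmul : ∀ g h w, lin (g * h) w = lin g (lin h w) := fun g h w => by
    rw [hlin, hlin, hlin, hψ']
    exact congrArg φ (Subtype.ext (by simp [cj, mul_assoc]))
  have hinv : ∀ m p q, p ≠ q → ∃ r s, r ≠ s ∧ lin m (L.t p q) = L.t r s := by
    intro m p q hpq
    obtain ⟨h1, h2⟩ := (hT (ψ.symm (L.t p q))).2 ⟨p, q, hpq, hψ _⟩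
    rw [hlin]
    refine (hT _).1 ⟨fun h => h1 (conj_eq_one_iff.1 h), fun h => h2 (h.trans ?_)⟩
    exact isConj_iff.2 ⟨(m : G)⁻¹, by simp [cj, mul_assoc]⟩
  obtain ⟨act, hact, -⟩ := H38.FiM24.exists_act L lin h1 hmul hinv
  obtain ⟨π, e, hπ, -⟩ := L.exists_hom act lin hact
  let el : GolayPt → GolayPt → G := fun a b => (ψ.symm (L.t (e.symm a) (e.symm b)) : ↥V)
  have hne : ∀ a b : GolayPt, a ≠ b → e.symm a ≠ e.symm b := fun a b h =>
    fun h' => h (e.symm.injective h')
  have htype : ∀ a b : GolayPt, a ≠ b → el a b ≠ 1 ∧ ¬ IsConj z (el a b) := fun a b h =>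
    (hT (ψ.symm (L.t (e.symm a) (e.symm b)))).2 ⟨_, _, hne a b h, hψ _⟩
  obtain ⟨o⟩ : Nonempty α := Fintype.card_pos_iff.mp (by rw [L.card_pts]; norm_num)
  refine ⟨⟨el, M24.subtype.comp π, fun a b => (ψ.symm _).2, fun a b c => ?_, fun a b h => (htype a b h).1,
    fun a b h => (htype a b h).2, fun a b c d hab hac had hbc hbd hcd => ?_, ?_, ?_, ?_, ?_,
    hV, hVc, hz, hcent, ?_⟩, ?_, ?_⟩
  · exact congrArg Subtype.val ((hadd _ _).symm.trans (congrArg ψ.symm (L.add _ _ _)))
  · by_contra hcon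
    set v := ψ.symm (L.t (e.symm a) (e.symm b) + L.t (e.symm c) (e.symm d)) with hv
    have hvv : (v : G) = el a b * el c d := congrArg Subtype.val (hadd _ _)
    have hfar := L.far _ _ _ _ (hne a b hab) (hne c d hcd) (hne a c hac) (hne a d had) (hne b c hbc)
      (hne b d hbd)
    obtain ⟨p, q, -, he⟩ := (hT v).1 ⟨fun h => by
      have h' : v = 1 := Subtype.ext h
      refine hfar (e.symm a) (e.symm a) ?_
      rw [← hψ (L.t (e.symm a) (e.symm b) + L.t (e.symm c) (e.symm d)), ← hv, h', hφ1, L.t_self],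
      fun h => hcon (hvv ▸ h)⟩
    rw [hv, hψ] at he
    exact hfar p q he
  · intro v hv hv1 hvz
    obtain ⟨p, q, hpq, he⟩ := (hT ⟨v, hv⟩).1 ⟨hv1, hvz⟩
    refine ⟨e p, e q, fun h => hpq (e.injective h), ?_⟩
    show v = (ψ.symm (L.t (e.symm (e p)) (e.symm (e q))) : ↥V)
    rw [e.symm_apply_apply, e.symm_apply_apply, ← he, hψ']
  · intro v hv
    obtain ⟨p, q, r, s, he⟩ : ∃ p q r s, φ ⟨v, hv⟩ = L.t p q + L.t r s := by
      by_cases hf : φ ⟨v, hv⟩ ∈ L.far4 o
      · obtain ⟨w, hw⟩ : (L.fib o (φ ⟨v, hv⟩)).Nonempty :=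
          Finset.card_pos.1 (by rw [L.card_fib o hf]; norm_num)
        obtain ⟨hw4, hwv⟩ := Finset.mem_filter.1 hw
        have hw4' := (Finset.mem_powersetCard.1 hw4).2
        obtain ⟨p, q, hpq, -, -, hsplit, hc⟩ := L.val_split o (w := w) (by omega)
        obtain ⟨r, s, hrs, hrest⟩ := Finset.card_eq_two.1 (show (w \ {p, q}).card = 2 by omega)
        exact ⟨p, q, r, s, by rw [← hwv, hsplit, hrest, L.val_pair o hrs]⟩
      · simp only [PairLabels.far4, Finset.mem_sdiff, Finset.mem_univ, true_and, not_not] at hf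
        rcases Finset.mem_insert.1 hf with h | h
        · exact ⟨o, o, o, o, by rw [h, L.t_self, add_zero]⟩
        · obtain ⟨w, hw, he⟩ := Finset.mem_image.1 h
          obtain ⟨p, q, hpq, rfl⟩ := Finset.card_eq_two.1 (Finset.mem_powersetCard.1 hw).2
          exact ⟨p, q, o, o, by rw [← he, L.val_pair o hpq, L.t_self, add_zero]⟩
    refine ⟨e p, e q, e r, e s, ?_⟩
    show v = (ψ.symm _ : ↥V) * (ψ.symm _ : ↥V)
    rw [e.symm_apply_apply, e.symm_apply_apply, e.symm_apply_apply, e.symm_apply_apply,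
      ← Subgroup.coe_mul, ← hadd, ← he, hψ']
  · intro n a b
    have h := hact n (e.symm a) (e.symm b)
    rw [hlin] at h
    have hh := congrArg (fun w => ((ψ.symm w : ↥V) : G)) h
    simp only [hψ'] at hh
    show (n : G) * el a b * (n : G)⁻¹ =
      el ((π n : Equiv.Perm GolayPt) a) ((π n : Equiv.Perm GolayPt) b)
    have key : ∀ x, (π n : Equiv.Perm GolayPt) x = e (act n (e.symm x)) := fun x => by
      rw [← hπ n (e.symm x), e.apply_symm_apply]
    simp only [el, key, e.symm_apply_apply]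
    exact hh
  · intro n a h2 h1 ha
    exact card_fix_eight (π n).2 h2 h1 ha
  · rw [← Nat.card_congr e, Nat.card_eq_fintype_card, L.card_pts]
  · rintro _ ⟨n, rfl⟩
    exact (π n).2
  · intro hN
    have hle : (M24.subtype.comp π).range ≤ M24 := by
      rintro _ ⟨n, rfl⟩
      exact (π n).2
    refine Subgroup.eq_of_le_of_card_ge hle ?_
    set f := M24.subtype.comp π
    have hm := card_mul_index f.ker
    rw [index_ker, hN] at hm
    have hk : Nat.card f.ker ≤ 2 ^ 11 := by
      rw [← hVc]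
      refine Nat.card_le_card_of_injective (fun n => ⟨(n.1 : G), ?_⟩)
        fun m n e => Subtype.ext (Subtype.ext (congrArg Subtype.val e :))
      refine hcent (mem_centralizer_iff.2 fun v hv => ?_)
      have hval : ∀ w : W, lin n.1 w = w := by
        have hfix : act n.1 = 1 := by
          refine Equiv.ext fun p => e.injective ?_
          rw [← hπ]
          have := Equiv.ext_iff.1 (MonoidHom.mem_ker.1 n.2) (e p)
          simpa [f] using this
        intro w
        have hlab : ∀ p q, lin n.1 (L.t p q) = L.t p q := fun p q => by rw [hact, hfix]; rfl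
        have hval : ∀ s, lin n.1 (L.val o s) = L.val o s := fun s => by
          rw [PairLabels.val, map_sum]
          exact Finset.sum_congr rfl fun i _ => hlab o i
        by_cases hv : w ∈ L.far4 o
        · obtain ⟨s, hs⟩ : (L.fib o w).Nonempty :=
            Finset.card_pos.1 (by rw [L.card_fib o hv]; norm_num)
          rw [← (Finset.mem_filter.1 hs).2, hval]
        · simp only [PairLabels.far4, Finset.mem_sdiff, Finset.mem_univ, true_and, not_not] at hv
          rcases Finset.mem_insert.1 hv with rfl | hv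
          · rw [map_zero]
          · obtain ⟨s, -, rfl⟩ := Finset.mem_image.1 hv
            exact hval s
      have h := hval (φ ⟨v, hv⟩)
      rw [hlin, hψ'] at h
      exact (mul_inv_eq_iff_eq_mul.1 (congrArg Subtype.val (hbij.1 h) :)).symm
    have := Nat.mul_le_mul_right (Nat.card f.range) hk
    rw [hm] at this
    exact Nat.le_of_mul_le_mul_left this (by norm_num)

end H95.J4T
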