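import Cfsg.Agent.H19.J4V.Mathieu
import Cfsg.Agent.H7.J4Two.Main
import Cfsg.Agent.H95.J4T.Assemble
import Cfsg.Agent.H95.J4T.Labels

set_option autoImplicit false
open Cfsg Subgroup

namespace H95.J4T

variable {G : Type*} [Group G] [Finite G] [IsSimpleGroup G] {z : G}

theorem exists_mem_elementary (hG : ¬ IsMulCommutative G) (hJ : Cfsg.IsOfJankoFourTypeAt z) {t : G}
    (ht : orderOf t = 2) :
    ∃ V : Subgroup G, Cfsg.IsElementaryAbelian 2 V ∧ Nat.card V = 2 ^ 11 ∧ t ∈ V := by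
  obtain ⟨P, hP⟩ := hJ
  obtain ⟨N, e, o⟩ := Cfsg.Agent.H69.J4.outer_of_type hP
  obtain ⟨R⟩ := Cfsg.Agent.H69.J4.exists_real o (Cfsg.Agent.H69.J4.data_of_type hP)
  obtain ⟨g, hg⟩ := H7.J4Two.exists_conj_V0 hG hP R (y := t)
    (by rw [← pow_two, ← ht, pow_orderOf_eq_one])
  refine ⟨R.V0.map (MulAut.conj g⁻¹).toMonoidHom, map_elementary _ R.V0_elementary, ?_,
    ⟨_, hg, ?_⟩⟩
  · rw [card_map, R.card_V0]
  · simp [mul_assoc]

end H95.J4T
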