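import Cfsg.Agent.H95.J4T.Count

/-!
# The centralizer of a pair element normalizes `V`
-/

set_option autoImplicit false
set_option linter.unusedSectionVars false

open Subgroup

namespace H95.J4T

variable {G : Type*} [Group G] {z : G} {V : Subgroup G} {Ω : Type*}

/-- The part of a conjugate of `V` that normalizes `V`. -/
def Dd (V : Subgroup G) (g : G) : Subgroup G :=
  V.comap (MulAut.conj g⁻¹).toMonoidHom ⊓ normalizer (V : Set G)

theorem mem_Dd {g n : G} : n ∈ Dd V g ↔ g⁻¹ * n * g ∈ V ∧ n ∈ normalizer (V : Set G) := by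
  simp [Dd, mem_inf]

theorem mul_word {x r : G} (hxr : x * r = r⁻¹ * x) (k : ℕ) :
    x * r ^ (2 * k) = (r ^ k)⁻¹ * x * r ^ k ∧
      x * r ^ (2 * k + 1) = (r ^ k)⁻¹ * (x * r) * r ^ k := by
  have h : x * r ^ k = (r ^ k)⁻¹ * x := by
    rw [← inv_pow]
    exact (show SemiconjBy x r r⁻¹ from hxr).pow_right k
  constructor
  · rw [two_mul, pow_add, ← mul_assoc, h]
  · rw [show 2 * k + 1 = k + (k + 1) by ring, pow_add, ← mul_assoc, h, pow_succ', mul_assoc,
      ← mul_assoc x r, ← mul_assoc]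

variable (F : Frame z V Ω) {a b : Ω}

/-- The hypotheses of the argument: the centralizers on the `z` side, and the uniqueness of `V`. -/
structure Setup (F : Frame z V Ω) : Prop where
  hH : ∀ x ∈ V, ∀ t ∈ V, IsConj z x → t ≠ 1 → ¬ IsConj z t →
    centralizer ({x} : Set G) ⊓ centralizer ({t} : Set G) ≤ normalizer (V : Set G)
  hW : ∀ W : Subgroup G, Cfsg.IsElementaryAbelian 2 W → Nat.card W = 2 ^ 11 →
    W ≤ normalizer (V : Set G) → W = V

variable {F} (S : Setup F) (hab : a ≠ b)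
include S hab

theorem cent_le {x : G} (hx : x ∈ V) (hxz : IsConj z x) {n : G} (h1 : Commute n x)
    (h2 : Commute n (F.el a b)) : n ∈ normalizer (V : Set G) :=
  S.hH x hx _ (F.mem a b) hxz (F.ne_one a b hab) (F.not_isConj a b hab)
    ⟨mem_centralizer_singleton_iff.2 h1, mem_centralizer_singleton_iff.2 h2⟩

/-- If a conjugator from `C(t)` keeps a conjugate of `z` inside `V`, it normalizes `V`. -/
theorem mem_N {g x : G} (hg : Commute g (F.el a b)) (hx : x ∈ V) (hxz : IsConj z x)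
    (hgx : g * x * g⁻¹ ∈ V) : g ∈ normalizer (V : Set G) := by
  have hgz : IsConj z (g * x * g⁻¹) := hxz.trans (isConj_iff.2 ⟨g, rfl⟩)
  set W := V.map (MulAut.conj g).toMonoidHom with hW
  have hWe : Cfsg.IsElementaryAbelian 2 W := by
    refine ⟨⟨⟨?_⟩⟩, ?_⟩
    · rintro ⟨_, u, hu, rfl⟩ ⟨_, v, hv, rfl⟩
      refine Subtype.ext ?_
      show (MulAut.conj g).toMonoidHom u * (MulAut.conj g).toMonoidHom v = _ * _
      rw [← map_mul, ← map_mul, F.comm hu hv]
    · rintro _ ⟨u, hu, rfl⟩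
      rw [← map_pow, F.elem.2 u hu, map_one]
  have hWc : Nat.card W = 2 ^ 11 := by
    rw [hW, Nat.card_congr (V.equivMapOfInjective _ (MulAut.conj g).injective).toEquiv.symm,
      F.card_V]
  have hle : W ≤ normalizer (V : Set G) := by
    rintro _ ⟨v, hv, rfl⟩
    refine cent_le S hab hgx hgz ?_ ?_
    · exact (show Commute v x from F.comm hv hx).map (MulAut.conj g).toMonoidHom
    · have := (show Commute v (F.el a b) from F.comm hv (F.mem a b)).map
        (MulAut.conj g).toMonoidHom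
      have he : (MulAut.conj g).toMonoidHom (F.el a b) = F.el a b := by
        show g * F.el a b * g⁻¹ = F.el a b
        rw [hg.eq, mul_inv_cancel_right]
      rwa [he] at this
  have hWV := S.hW W hWe hWc hle
  rw [mem_normalizer_iff]
  intro v
  constructor
  · intro hv
    rw [← hWV]
    exact mem_map.2 ⟨v, hv, rfl⟩
  · intro hv
    rw [← hWV] at hv
    obtain ⟨u, hu, e⟩ := mem_map.1 hv
    exact mul_left_cancel (mul_right_cancel (show g * u * g⁻¹ = g * v * g⁻¹ from e)) ▸ hu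

theorem el_mem_Dd {g : G} (hg : Commute g (F.el a b)) : F.el a b ∈ Dd V g := by
  refine mem_Dd.2 ⟨?_, le_normalizer (F.mem a b)⟩
  rw [mul_assoc, ← hg.eq, inv_mul_cancel_left]
  exact F.mem a b

theorem Dd_comm {g n : G} (_hg : Commute g (F.el a b)) (hn : n ∈ Dd V g) {u : G}
    (hu : g⁻¹ * u * g ∈ V) : n * u = u * n := by
  have h := (show Commute (g⁻¹ * n * g) (g⁻¹ * u * g) from F.comm (mem_Dd.1 hn).1 hu).map
    (MulAut.conj g).toMonoidHom
  simpa [mul_assoc] using h.eq

theorem act_pair {g : G} (hg : Commute g (F.el a b)) {n : ↥(normalizer (V : Set G))}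
    (hn : (n : G) ∈ Dd V g) {c d : Ω} (hcd : c ≠ d) (hu : g⁻¹ * F.el c d * g ∈ V) :
    (F.act n c = c ∧ F.act n d = d) ∨ (F.act n c = d ∧ F.act n d = c) := by
  have h := F.act_el n c d
  rw [Dd_comm S hab hg hn hu, mul_inv_cancel_right] at h
  exact F.el_inj hcd h

/-- Strong closure, lower half: fixed vectors of a conjugate move into the other conjugate. -/
theorem cent_card_le {g x : G} [Finite G] (hg : Commute g (F.el a b)) (hx : x ∈ V)
    (hxz : IsConj z x) :
    Nat.card ↥(centralizer ({g * x * g⁻¹} : Set G) ⊓ V) ≤ Nat.card (Dd V g⁻¹) := by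
  refine Nat.card_le_card_of_injective
    (fun v => ⟨g⁻¹ * (v : G) * g, mem_Dd.2 ⟨?_, ?_⟩⟩) (fun v w e => ?_)
  · have : g⁻¹⁻¹ * (g⁻¹ * (v : G) * g) * g⁻¹ = v := by group
    rw [this]; exact v.2.2
  · refine cent_le S hab hx hxz ?_ ?_
    · have h := (show Commute (v : G) (g * x * g⁻¹) from
        mem_centralizer_singleton_iff.1 v.2.1).map (MulAut.conj g⁻¹).toMonoidHom
      simpa [Commute, SemiconjBy, mul_assoc] using h.eq
    · have h := (show Commute (v : G) (F.el a b) from F.comm v.2.2 (F.mem a b)).map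
        (MulAut.conj g⁻¹).toMonoidHom
      have he : (MulAut.conj g⁻¹).toMonoidHom (F.el a b) = F.el a b := by
        show g⁻¹ * F.el a b * g⁻¹⁻¹ = F.el a b
        rw [hg.inv_left.eq, mul_inv_cancel_right]
      rw [he] at h
      simpa [Commute, SemiconjBy, mul_assoc] using h.eq
  · have e' := congrArg Subtype.val e
    exact Subtype.ext (mul_left_cancel (mul_right_cancel e'))

/-- The elements of `Dd V g` fixing the point `a`. -/
def Dfix (_S : Setup F) (_hab : a ≠ b) (g : G) : Subgroup G :=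
  Dd V g ⊓ ((MulAction.stabilizer (Equiv.Perm Ω) a).comap F.act).map
    (normalizer (V : Set G)).subtype

theorem mem_Dfix {g n : G} : n ∈ Dfix S hab g ↔
    n ∈ Dd V g ∧ ∃ h : n ∈ normalizer (V : Set G), F.act ⟨n, h⟩ a = a := by
  rw [Dfix, mem_inf]
  refine and_congr_right fun _ => ?_
  constructor
  · rintro ⟨⟨m, hm⟩, hm', rfl⟩
    exact ⟨hm, hm'⟩
  · rintro ⟨h, h'⟩
    exact ⟨⟨n, h⟩, h', rfl⟩

theorem card_Dd_le_two {g : G} [Finite G] (hg : Commute g (F.el a b)) :
    Nat.card (Dd V g) ≤ 2 * Nat.card (Dfix S hab g) := by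
  classical
  have hpair : ∀ n : ↥(normalizer (V : Set G)), (n : G) ∈ Dd V g → F.act n a ≠ a →
      F.act n a = b ∧ F.act n b = a := fun n hn h => by
    rcases act_pair S hab hg hn hab (mem_Dd.1 (el_mem_Dd S hab hg)).1 with h' | h'
    · exact absurd h'.1 h
    · exact h'
  by_cases hall : ∀ n : ↥(normalizer (V : Set G)), (n : G) ∈ Dd V g → F.act n a = a
  · have : Dd V g ≤ Dfix S hab g := fun n hn =>
      (mem_Dfix S hab).2 ⟨hn, (mem_Dd.1 hn).2, hall ⟨n, _⟩ hn⟩
    have := card_le_of_le this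
    omega
  push Not at hall
  obtain ⟨n1, hn1, hn1a⟩ := hall
  let N := fun n : Dd V g => (⟨(n : G), (mem_Dd.1 n.2).2⟩ : ↥(normalizer (V : Set G)))
  have hf : ∀ n : Dd V g, F.act (N n) a ≠ a → (n1 : G) * n ∈ Dfix S hab g := fun n hn =>
    (mem_Dfix S hab).2 ⟨mul_mem hn1 n.2, mul_mem n1.2 (N n).2, by
      show F.act (n1 * N n) a = a
      rw [map_mul, Equiv.Perm.mul_apply, (hpair (N n) n.2 hn).1, (hpair n1 hn1 hn1a).2]⟩
  let f : Dd V g → Dfix S hab g × Bool := fun n =>
    if h : F.act (N n) a = a then (⟨n, (mem_Dfix S hab).2 ⟨n.2, _, h⟩⟩, false)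
    else (⟨_, hf n h⟩, true)
  have hinj : Function.Injective f := fun m n e => by
    by_cases h1 : F.act (N m) a = a <;> by_cases h2 : F.act (N n) a = a <;>
      simp [f, h1, h2] at e
    · exact e
    · exact e
  have := Nat.card_le_card_of_injective f hinj
  rw [Nat.card_prod, Nat.card_eq_fintype_card (α := Bool), Fintype.card_bool] at this
  omega

/-- The intersection of `V` with a different conjugate contains no conjugate of `z`. -/
theorem no_z {g u : G} (hg : Commute g (F.el a b)) (hgN : g ∉ normalizer (V : Set G))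
    (hu : u ∈ V) (hu' : g⁻¹ * u * g ∈ V) : ¬ IsConj z u := fun h =>
  hgN (mem_N S hab hg hu' (h.trans (isConj_iff.2 ⟨g⁻¹, by group⟩))
    (by rw [show g * (g⁻¹ * u * g) * g⁻¹ = u by group]; exact hu))

theorem exists_triangle {g : G} (hg : Commute g (F.el a b))
    (hgN : g ∉ normalizer (V : Set G)) :
    ∃ c, c ≠ a ∧ c ≠ b ∧ ∀ u ∈ V, g⁻¹ * u * g ∈ V →
      u = 1 ∨ u = F.el a b ∨ u = F.el a c ∨ u = F.el b c := by
  obtain ⟨c, h1, h2, h⟩ := F.triangle {u | u ∈ V ∧ g⁻¹ * u * g ∈ V}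
    (fun u hu v hv => ⟨mul_mem hu.1 hv.1, by
      rw [show g⁻¹ * (u * v) * g = (g⁻¹ * u * g) * (g⁻¹ * v * g) by group]
      exact mul_mem hu.2 hv.2⟩)
    (fun u hu => hu.1) (fun u hu => no_z S hab hg hgN hu.1 hu.2) hab
    ⟨F.mem a b, (mem_Dd.1 (el_mem_Dd S hab hg)).1⟩
  exact ⟨c, h1, h2, fun u hu hu' => h u ⟨hu, hu'⟩⟩

theorem card_Dd_upper {g : G} [Finite G] (hg : Commute g (F.el a b))
    (hgN : g ∉ normalizer (V : Set G)) : Nat.card (Dd V g) ≤ 64 := by
  classical
  obtain ⟨c, hca, hcb, htri⟩ := exists_triangle S hab hg hgN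
  set D0 := Dfix S hab g
  let ι : D0 →* ↥(normalizer (V : Set G)) :=
    inclusion (show D0 ≤ normalizer (V : Set G) from fun n hn => ((mem_Dfix S hab).1 hn).2.1)
  let f := F.act.comp ι
  have hr : Nat.card f.range ≤ 16 := by
    refine F.card_le_sixteen f.range ?_ ?_ (a := a) ?_
    · rintro _ ⟨n, rfl⟩; exact ⟨ι n, rfl⟩
    · rintro _ ⟨n, rfl⟩
      rw [← map_mul, show n * n = 1 from Subtype.ext ?_, map_one]
      have hv := F.sq (mem_Dd.1 ((mem_Dfix S hab).1 n.2).1).1
      have : g⁻¹ * ((n : G) * n) * g = 1 := by rw [← hv]; group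
      show (n : G) * n = 1
      calc (n : G) * n = g * (g⁻¹ * ((n : G) * n) * g) * g⁻¹ := by group
        _ = 1 := by rw [this]; group
    · rintro _ ⟨n, rfl⟩
      exact ((mem_Dfix S hab).1 n.2).2.2
  have hm := card_mul_index f.ker
  rw [index_ker] at hm
  have hkerV : ∀ n ∈ f.ker, (n : G) ∈ V ∧ g⁻¹ * (n : G) * g ∈ V := fun n hn =>
    ⟨(F.act_eq_one_iff (ι n)).1 hn, (mem_Dd.1 ((mem_Dfix S hab).1 n.2).1).1⟩
  by_cases hsmall : ∀ u ∈ V, g⁻¹ * u * g ∈ V → u = 1 ∨ u = F.el a b
  · have hk : Nat.card f.ker ≤ ({1, F.el a b} : Set G).ncard := by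
      rw [← Nat.card_coe_set_eq]
      exact Nat.card_le_card_of_injective
        (fun n => ⟨(n.1 : G), by simpa using hsmall _ (hkerV n.1 n.2).1 (hkerV n.1 n.2).2⟩)
        fun m n e => Subtype.ext (Subtype.ext (congrArg Subtype.val e :))
    rw [Set.ncard_pair (F.ne_one a b hab).symm] at hk
    have h2 : Nat.card (Dd V g) ≤ 2 * Nat.card D0 := card_Dd_le_two S hab hg
    have := Nat.mul_le_mul hk hr
    rw [hm] at this
    omega
  · push Not at hsmall
    obtain ⟨u, huV, hug, hu1, hu2⟩ := hsmall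
    have hac : g⁻¹ * F.el a c * g ∈ V := by
      rcases htri u huV hug with h | h | h | h
      · exact absurd h hu1
      · exact absurd h hu2
      · exact h ▸ hug
      · have := mul_mem (mem_Dd.1 (el_mem_Dd S hab hg)).1 hug
        rwa [show g⁻¹ * F.el a b * g * (g⁻¹ * u * g) = g⁻¹ * (F.el a b * u) * g by group, h,
          F.add] at this
    have hall : Dd V g ≤ D0 := by
      intro n hn
      refine (mem_Dfix S hab).2 ⟨hn, (mem_Dd.1 hn).2, ?_⟩
      rcases act_pair S hab hg (n := ⟨n, (mem_Dd.1 hn).2⟩) hn hab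
          (mem_Dd.1 (el_mem_Dd S hab hg)).1 with h | h
      · exact h.1
      rcases act_pair S hab hg (n := ⟨n, (mem_Dd.1 hn).2⟩) hn hca.symm hac with h' | h'
      · exact h'.1
      · exact absurd (h.1.symm.trans h'.1) hcb.symm
    have hk : Nat.card f.ker ≤ ({1, F.el a b, F.el a c, F.el b c} : Set G).ncard := by
      rw [← Nat.card_coe_set_eq]
      exact Nat.card_le_card_of_injective
        (fun n => ⟨(n.1 : G), by simpa using htri _ (hkerV n.1 n.2).1 (hkerV n.1 n.2).2⟩)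
        fun m n e => Subtype.ext (Subtype.ext (congrArg Subtype.val e :))
    have h4 : ({1, F.el a b, F.el a c, F.el b c} : Set G).ncard ≤ 4 :=
      (Set.ncard_insert_le _ _).trans (Nat.succ_le_succ ((Set.ncard_insert_le _ _).trans
        (Nat.succ_le_succ ((Set.ncard_insert_le _ _).trans (Nat.succ_le_succ
          (Set.ncard_singleton _).le)))))
    have := Nat.mul_le_mul (hk.trans h4) hr
    rw [hm] at this
    have := card_le_of_le hall
    omega

theorem card_Dd_raise {g : G} [Finite G] (hg : Commute g (F.el a b))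
    (hgN : g ∉ normalizer (V : Set G)) (h : 64 ≤ Nat.card (Dd V g)) :
    128 ≤ Nat.card (Dd V g⁻¹) := by
  classical
  have h2 := card_Dd_le_two S hab hg
  set c := fun n : G => g⁻¹ * n * g with hc
  have hcinj : Function.Injective c := fun m n e => mul_left_cancel (mul_right_cancel e)
  obtain ⟨u, ⟨n, hn, rfl⟩, hu⟩ := F.exists_isConj (c '' (Dfix S hab g : Set G))
    (by
      rintro _ ⟨m, hm, rfl⟩ _ ⟨n, hn, rfl⟩
      exact ⟨m * n, mul_mem hm hn, by simp only [hc]; group⟩)
    (by rintro _ ⟨m, hm, rfl⟩; exact (mem_Dd.1 ((mem_Dfix S hab).1 hm).1).1)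
    (by
      rw [Set.ncard_image_of_injective _ hcinj, ← Nat.card_coe_set_eq]
      show 4 < Nat.card (Dfix S hab g)
      omega)
  obtain ⟨hnD, hnN, hna⟩ := (mem_Dfix S hab).1 hn
  have hcn := (mem_Dd.1 hnD).1
  have hne : n = g * (g⁻¹ * n * g) * g⁻¹ := by group
  have hnV : n ∉ V := fun hv => hgN (mem_N S hab hg hcn hu (hne ▸ hv))
  have hn2 : n * n = 1 := by
    calc n * n = g * ((g⁻¹ * n * g) * (g⁻¹ * n * g)) * g⁻¹ := by group
      _ = 1 := by rw [F.sq hcn]; group
  have h7 := F.seven ⟨n, hnN⟩ (a := a)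
    (by rw [← map_mul, show (⟨n, hnN⟩ : ↥(normalizer (V : Set G))) * ⟨n, hnN⟩ = 1 from
      Subtype.ext hn2, map_one])
    (fun e => hnV ((F.act_eq_one_iff _).1 e)) hna
  have := cent_card_le S hab hg hcn hu
  rw [← hne] at this
  exact le_trans (by norm_num) (le_trans h7 this)

/-- Strong closure of the conjugates of `z` in `V`, in the centralizer of a pair element. -/
theorem strong {g x : G} [Finite G] (hg : Commute g (F.el a b)) (hx : x ∈ V) (hxz : IsConj z x)
    (hgx : g * x * g⁻¹ ∈ normalizer (V : Set G)) : g * x * g⁻¹ ∈ V := by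
  by_cases hgN : g ∈ normalizer (V : Set G)
  · exact (mem_normalizer_iff.1 hgN x).1 hx
  exfalso
  have h2 : g * x * g⁻¹ * (g * x * g⁻¹) = 1 := by
    calc g * x * g⁻¹ * (g * x * g⁻¹) = g * (x * x) * g⁻¹ := by group
      _ = 1 := by rw [F.sq hx]; group
  have h6 := (F.six hgx h2).trans (cent_card_le S hab hg hx hxz)
  have h7 := card_Dd_raise S hab hg.inv_left (fun h => hgN (by simpa using inv_mem h))
    (by norm_num at h6; omega)
  rw [inv_inv] at h7
  have := card_Dd_upper S hab hg hgN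
  omega

/-- The centralizer of a pair element normalizes `V`. -/
theorem centralizer_le [Finite G] :
    centralizer ({F.el a b} : Set G) ≤ normalizer (V : Set G) := by
  classical
  intro g hg
  replace hg : Commute g (F.el a b) := mem_centralizer_singleton_iff.1 hg
  by_contra hgN
  have : Finite Ω := F.finite
  have := Fintype.ofFinite Ω
  have h24 : Fintype.card Ω = 24 := by rw [← Nat.card_eq_fintype_card, F.card_pts]
  have fresh : ∀ s : Finset Ω, s.card < 24 → ∃ i, i ∉ s := fun s hs => by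
    obtain ⟨i, -, hi⟩ := Finset.exists_mem_notMem_of_card_lt_card (s := s) (t := Finset.univ)
      (by rw [Finset.card_univ, h24]; exact hs)
    exact ⟨i, hi⟩
  obtain ⟨c, hca, hcb, htri⟩ := exists_triangle S hab hg hgN
  obtain ⟨d, hd⟩ := fresh {a, b, c} (lt_of_le_of_lt Finset.card_le_three (by norm_num))
  obtain ⟨p, hp⟩ := fresh {a, b} (lt_of_le_of_lt Finset.card_le_two (by norm_num))
  obtain ⟨q, hq⟩ := fresh {a, b, p} (lt_of_le_of_lt Finset.card_le_three (by norm_num))
  obtain ⟨r', hr⟩ := fresh {a, b, p, q} (lt_of_le_of_lt Finset.card_le_four (by norm_num))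
  simp only [Finset.mem_insert, Finset.mem_singleton, not_or] at hd hp hq hr
  set t := F.el a b with ht
  set x := F.el a b * F.el c d with hx
  set x2 := F.el a p * F.el q r' with hx2
  have hxV : x ∈ V := mul_mem (F.mem _ _) (F.mem _ _)
  have hx2V : x2 ∈ V := mul_mem (F.mem _ _) (F.mem _ _)
  have hxz : IsConj z x := F.isConj a b c d hab hca.symm (Ne.symm hd.1) hcb.symm
    (Ne.symm hd.2.1) (Ne.symm hd.2.2)
  have hx2z : IsConj z x2 := F.isConj a p q r' (Ne.symm hp.1) (Ne.symm hq.1) (Ne.symm hr.1)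
    (Ne.symm hq.2.2) (Ne.symm hr.2.2.1) (Ne.symm hr.2.2.2)
  have hxt : x * t = F.el c d := by
    rw [hx, ht, F.comm (F.mem a b) (F.mem c d), mul_assoc, F.sq (F.mem a b), mul_one]
  have hx2t : IsConj z (x2 * t) := by
    rw [show x2 * t = F.el b p * F.el q r' by
      rw [hx2, ht, F.comm (mul_mem (F.mem a p) (F.mem q r')) (F.mem a b), ← mul_assoc,
        ← F.el_symm a b, F.add]]
    exact F.isConj b p q r' (Ne.symm hp.2) (Ne.symm hq.2.1) (Ne.symm hr.2.1)
      (Ne.symm hq.2.2) (Ne.symm hr.2.2.1) (Ne.symm hr.2.2.2)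
  have hnc : ∀ h, Commute h t → h * x * h⁻¹ ≠ x2 := fun h hh e => by
    refine F.not_isConj c d (Ne.symm hd.2.2) ?_
    rw [← hxt]
    refine hx2t.trans (isConj_iff.2 ⟨h⁻¹, ?_⟩)
    rw [← e]
    calc h⁻¹ * (h * x * h⁻¹ * t) * h⁻¹⁻¹ = x * (h⁻¹ * (t * h)) := by group
      _ = x * t := by rw [← hh.eq, inv_mul_cancel_left]
  set y := g * x2 * g⁻¹ with hy
  have hxc : Commute x t := F.comm hxV (F.mem a b)
  have hyc : Commute y t :=
    (hg.mul_left (show Commute x2 t from F.comm hx2V (F.mem a b))).mul_left hg.inv_left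
  have hxx : x * x = 1 := F.sq hxV
  have hyy : y * y = 1 := by
    rw [hy]
    calc g * x2 * g⁻¹ * (g * x2 * g⁻¹) = g * (x2 * x2) * g⁻¹ := by group
      _ = 1 := by rw [F.sq hx2V]; group
  set r := x * y with hrdef
  have hri : r⁻¹ = y * x := by
    rw [hrdef, mul_inv_rev, inv_eq_of_mul_eq_one_right hxx, inv_eq_of_mul_eq_one_right hyy]
  have hxr : x * r = r⁻¹ * x := by
    rw [hri, hrdef, ← mul_assoc, hxx, one_mul, mul_assoc, hxx, mul_one]
  have hxry : x * r = y := by rw [hrdef, ← mul_assoc, hxx, one_mul]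
  have hrc : Commute r t := hxc.mul_left hyc
  -- every reflection is conjugate in `C(t)` to `x` or to `x2`
  have refl : ∀ j, ∃ h, Commute h t ∧
      (x * r ^ j = h * x * h⁻¹ ∨ x * r ^ j = h * x2 * h⁻¹) := by
    intro j
    obtain ⟨k, rfl⟩ | ⟨k, rfl⟩ := Nat.even_or_odd j
    · refine ⟨(r ^ k)⁻¹, (hrc.pow_left k).inv_left, Or.inl ?_⟩
      rw [← two_mul, (mul_word hxr k).1, inv_inv]
    · refine ⟨(r ^ k)⁻¹ * g, (hrc.pow_left k).inv_left.mul_left hg, Or.inr ?_⟩
      rw [(mul_word hxr k).2, hxry, hy]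
      group
  have hn0 : 0 < orderOf r := orderOf_pos r
  obtain ⟨m, hm⟩ | ⟨k, hk⟩ := Nat.even_or_odd (orderOf r)
  swap
  · have e := (mul_word hxr k).2
    rw [← hk, pow_orderOf_eq_one, mul_one, hxry, hy] at e
    refine hnc (g⁻¹ * r ^ k) (hg.inv_left.mul_left (hrc.pow_left k)) ?_
    rw [e]; group
  set i := r ^ m with hi
  have hi1 : i ≠ 1 := fun h => by
    have := orderOf_le_of_pow_eq_one (x := r) (n := m) (by omega) h
    omega
  have hii : i⁻¹ = i := inv_eq_of_mul_eq_one_right (by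
    rw [hi, ← pow_add, ← hm, pow_orderOf_eq_one])
  have hix : Commute i x := by
    have h : x * r ^ m = (r ^ m)⁻¹ * x := by
      rw [← inv_pow]; exact (show SemiconjBy x r r⁻¹ from hxr).pow_right m
    rw [← hi, hii] at h
    exact h.symm
  have hiy : Commute i y := hxry ▸ hix.mul_right ((Commute.refl r).pow_left m)
  have hit : Commute i t := hrc.pow_left m
  have hiN : i ∈ normalizer (V : Set G) := cent_le S hab hxV hxz hix hit
  have inV : ∀ h, Commute h t → ∀ w, w ∈ normalizer (V : Set G) →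
      (w = h * x * h⁻¹ ∨ w = h * x2 * h⁻¹) → w ∈ V ∧ IsConj z w := by
    intro h hh w hw hcase
    rcases hcase with e | e <;> subst e
    · exact ⟨strong S hab hh hxV hxz hw, hxz.trans (isConj_iff.2 ⟨h, rfl⟩)⟩
    · exact ⟨strong S hab hh hx2V hx2z hw, hx2z.trans (isConj_iff.2 ⟨h, rfl⟩)⟩
  obtain ⟨h, hh, hcase⟩ := refl m
  obtain ⟨hxiV, hxiz⟩ := inV h hh _ (mul_mem (le_normalizer hxV) hiN) hcase
  have hiV : i ∈ V := by
    have := mul_mem hxV hxiV
    rwa [← mul_assoc, hxx, one_mul] at this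
  have hi'N : g⁻¹ * i * g ∈ normalizer (V : Set G) := by
    refine cent_le S hab hx2V hx2z ?_ ((hg.inv_left.mul_left hit).mul_left hg)
    have h1 := hiy.map (MulAut.conj g⁻¹).toMonoidHom
    simpa [hy, Commute, SemiconjBy, mul_assoc] using h1.eq
  obtain ⟨h', hh', hcase'⟩ := refl (m + 1)
  have hyi : x * r ^ (m + 1) = y * i := by rw [pow_succ', ← mul_assoc, hxry]
  have hconj : g⁻¹ * (y * i) * g = x2 * (g⁻¹ * i * g) := by rw [hy]; group
  obtain ⟨hwV, -⟩ := inV (g⁻¹ * h') (hg.inv_left.mul_left hh') (g⁻¹ * (y * i) * g)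
    (by rw [hconj]; exact mul_mem (le_normalizer hx2V) hi'N)
    (by rw [← hyi]; rcases hcase' with e | e <;> [left; right] <;> rw [e] <;> group)
  have hi'V : g⁻¹ * i * g ∈ V := by
    have := mul_mem hx2V hwV
    rwa [hconj, ← mul_assoc, F.sq hx2V, one_mul] at this
  have hne : ∀ u v, u ≠ v → x * i = F.el u v → False := fun u v huv e =>
    F.not_isConj u v huv (e ▸ hxiz)
  rcases htri i hiV hi'V with e | e | e | e
  · exact hi1 e
  · exact hne c d (Ne.symm hd.2.2) (by rw [e, ← hxt])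
  · exact hne b d (Ne.symm hd.2.1) (by
      rw [e, hx, F.comm (mul_mem (F.mem a b) (F.mem c d)) (F.mem a c), ← mul_assoc,
        F.comm (F.mem a c) (F.mem a b), F.el_symm b a, F.add, F.add])
  · exact hne a d (Ne.symm hd.1) (by
      rw [e, hx, F.comm (mul_mem (F.mem a b) (F.mem c d)) (F.mem b c), ← mul_assoc,
        F.comm (F.mem b c) (F.mem a b), F.add, F.add])

end H95.J4T
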