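import Cfsg.Agent.H95.J4T.Frame

/-!
# Counting in a frame

Fixed points in `V` of involutions acting on the points, and the size of an elementary subgroup
fixing a point.
-/

set_option autoImplicit false

open Subgroup

namespace H95.J4T.Frame

variable {G : Type*} [Group G] {z : G} {V : Subgroup G} {Ω : Type*} (F : Frame z V Ω)

include F in
theorem card_inf_dvd (H : Subgroup G) : Nat.card ↥(H ⊓ V) ∣ 2 ^ 11 :=
  F.card_V ▸ card_dvd_of_le inf_le_right

include F in
theorem finite_V : Finite V := Nat.finite_of_card_ne_zero (by rw [F.card_V]; norm_num)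

include F in
theorem card_inf_ge (H : Subgroup G) {k : ℕ} (h : 2 ^ k < Nat.card ↥(H ⊓ V)) :
    2 ^ (k + 1) ≤ Nat.card ↥(H ⊓ V) := by
  obtain ⟨i, -, hi⟩ := (Nat.dvd_prime_pow Nat.prime_two).1 (F.card_inf_dvd H)
  rw [hi] at h ⊢
  exact Nat.pow_le_pow_right (by norm_num) ((Nat.pow_lt_pow_iff_right (by norm_num)).1 h)

include F in
/-- An element of the normalizer with square one centralizes at least `2 ^ 6` elements of `V`. -/
theorem six {n : G} (hn : n ∈ normalizer (V : Set G)) (h2 : n * n = 1) :
    2 ^ 6 ≤ Nat.card ↥(centralizer ({n} : Set G) ⊓ V) := by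
  refine F.card_inf_ge _ (k := 5) ?_
  set C := centralizer ({n} : Set G) ⊓ V
  have hni : n⁻¹ = n := inv_eq_of_mul_eq_one_right h2
  have hc : ∀ v : V, n * (v : G) * n⁻¹ ∈ V := fun v => (mem_normalizer_iff.1 hn _).1 v.2
  let φ : V →* V :=
    { toFun := fun v => ⟨v * (n * v * n⁻¹), mul_mem v.2 (hc v)⟩
      map_one' := by ext; simp
      map_mul' := fun v w => by
        ext
        show (v : G) * w * (n * (v * w) * n⁻¹) = v * (n * v * n⁻¹) * (w * (n * w * n⁻¹))
        calc (v : G) * w * (n * (v * w) * n⁻¹)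
            = v * (w * (n * v * n⁻¹)) * (n * w * n⁻¹) := by group
          _ = v * ((n * v * n⁻¹) * w) * (n * w * n⁻¹) := by rw [F.comm w.2 (hc v)]
          _ = _ := by group }
  have hker : ∀ v ∈ φ.ker, (v : G) ∈ C := fun v hv => by
    refine ⟨mem_centralizer_singleton_iff.2 ?_, v.2⟩
    have h : (v : G) * (n * v * n⁻¹) = 1 := congrArg Subtype.val (MonoidHom.mem_ker.1 hv)
    have h' : n * (v : G) * n⁻¹ = v := by
      rw [← inv_eq_of_mul_eq_one_right h]; exact F.inv_eq v.2
    exact (mul_inv_eq_iff_eq_mul.1 h').symm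
  have hrange : ∀ v ∈ φ.range, (v : G) ∈ C := by
    rintro _ ⟨v, rfl⟩
    refine ⟨mem_centralizer_singleton_iff.2 ?_, Subtype.mem _⟩
    show (v : G) * (n * v * n⁻¹) * n = n * (v * (n * v * n⁻¹))
    rw [hni]
    calc (v : G) * (n * v * n) * n = v * n * v * (n * n) := by group
      _ = (n * n) * ((v : G) * n * v) := by rw [h2]; group
      _ = n * (n * v * n⁻¹ * v) := by rw [hni]; group
      _ = n * ((v : G) * (n * v * n⁻¹)) := by rw [F.comm (hc v) v.2]
      _ = n * ((v : G) * (n * v * n)) := by rw [hni]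
  have := F.finite_V
  have : Finite C := Finite.of_injective (fun v : C => (⟨v.1, v.2.2⟩ : V))
    fun a b e => Subtype.ext (congrArg Subtype.val e :)
  have hk : Nat.card φ.ker ≤ Nat.card C :=
    Nat.card_le_card_of_injective (fun v => ⟨_, hker v.1 v.2⟩)
      fun a b e => Subtype.ext (Subtype.ext (congrArg Subtype.val e :))
  have hr : Nat.card φ.range ≤ Nat.card C :=
    Nat.card_le_card_of_injective (fun v => ⟨_, hrange v.1 v.2⟩)
      fun a b e => Subtype.ext (Subtype.ext (congrArg Subtype.val e :))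
  have hm := card_mul_index φ.ker
  rw [index_ker, F.card_V] at hm
  have hle := Nat.mul_le_mul hk hr
  rw [hm] at hle
  by_contra hlt
  push Not at hlt
  have h5 := Nat.mul_le_mul hlt hlt
  norm_num at hle h5
  omega

/-- An involution of the point action with a fixed point centralizes at least `2 ^ 7` elements. -/
theorem seven (n : ↥(normalizer (V : Set G))) {a : Ω} (h2 : F.act n * F.act n = 1)
    (h1 : F.act n ≠ 1) (ha : F.act n a = a) :
    2 ^ 7 ≤ Nat.card ↥(centralizer ({(n : G)} : Set G) ⊓ V) := by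
  classical
  refine F.card_inf_ge _ (k := 6) ?_
  have : Finite Ω := F.finite
  have := Fintype.ofFinite Ω
  have := F.finite_V
  have h24 : Fintype.card Ω = 24 := by rw [← Nat.card_eq_fintype_card, F.card_pts]
  set e := F.act n with he
  have hee : ∀ i, e (e i) = i := fun i => by
    have := Equiv.ext_iff.1 h2 i
    simpa using this
  set Fx := Finset.univ.filter fun i => e i = i with hFx
  have hFc : Fx.card = 8 := by
    rw [← F.eight n a h2 h1 ha, Nat.card_eq_fintype_card, Fintype.card_subtype]
  set Mv := Finset.univ.filter fun i => ¬ e i = i with hMv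
  have hMc : Mv.card = 16 := by
    have := Finset.card_filter_add_card_filter_not (s := (Finset.univ : Finset Ω))
      (fun i => e i = i)
    rw [← hFx, ← hMv, hFc, Finset.card_univ, h24] at this
    omega
  set S := Fx.offDiag ∪ Mv.image (fun i => (i, e i)) with hS
  have hFd : Fx.offDiag.card = 56 := by rw [Finset.offDiag_card, hFc]
  have hSc : S.card = 72 := by
    rw [hS, Finset.card_union_of_disjoint, hFd,
      Finset.card_image_of_injective _ (fun i j h => congrArg Prod.fst h), hMc]
    rw [Finset.disjoint_left]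
    rintro ⟨i, j⟩ hij hij'
    obtain ⟨k, hk, hk'⟩ := Finset.mem_image.1 hij'
    have hi := (Finset.mem_offDiag.1 hij).1
    rw [← (congrArg Prod.fst hk' : k = i)] at hi
    exact (Finset.mem_filter.1 hk).2 (Finset.mem_filter.1 hi).2
  have hSne : ∀ p ∈ S, p.1 ≠ p.2 := by
    intro p hp
    rcases Finset.mem_union.1 hp with h | h
    · exact (Finset.mem_offDiag.1 h).2.2
    · obtain ⟨k, hk, rfl⟩ := Finset.mem_image.1 h
      exact fun h => (Finset.mem_filter.1 hk).2 h.symm
  have hfib : ∀ S' : Finset (Ω × Ω), (∀ p ∈ S', p.1 ≠ p.2) →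
      S'.card ≤ 2 * (S'.image fun p => F.el p.1 p.2).card := by
    intro S' hne
    refine Finset.card_le_mul_card_image S' 2 fun g hg => ?_
    obtain ⟨q, hq, rfl⟩ := Finset.mem_image.1 hg
    refine (Finset.card_le_card (t := {q, (q.2, q.1)}) fun p hp => ?_).trans Finset.card_le_two
    obtain ⟨hp, hpe⟩ := Finset.mem_filter.1 hp
    simp only [Finset.mem_insert, Finset.mem_singleton]
    rcases F.el_inj (hne q hq) hpe.symm with ⟨h1, h2⟩ | ⟨h1, h2⟩
    · exact Or.inl (Prod.ext h1 h2)
    · exact Or.inr (Prod.ext h1 h2)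
  have hC : ∀ p ∈ S, F.el p.1 p.2 ∈ centralizer ({(n : G)} : Set G) ⊓ V := by
    intro p hp
    refine ⟨mem_centralizer_singleton_iff.2 ?_, F.mem _ _⟩
    have key := F.act_el n p.1 p.2
    rcases Finset.mem_union.1 hp with h | h
    · obtain ⟨h1, h2, -⟩ := Finset.mem_offDiag.1 h
      rw [← he, (Finset.mem_filter.1 h1).2, (Finset.mem_filter.1 h2).2] at key
      exact (mul_inv_eq_iff_eq_mul.1 key).symm
    · obtain ⟨k, -, rfl⟩ := Finset.mem_image.1 h
      dsimp only at key ⊢
      rw [← he, hee k, F.el_symm k (e k)] at key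
      exact (mul_inv_eq_iff_eq_mul.1 key).symm
  obtain ⟨i0, hi0⟩ := Finset.card_pos.1 (show 0 < Mv.card by omega)
  have hi0S : (i0, e i0) ∈ S := Finset.mem_union_right _ (Finset.mem_image.2 ⟨i0, hi0, rfl⟩)
  set q := F.el i0 (e i0) with hq
  set T1 := S.image fun p => F.el p.1 p.2 with hT1
  set T0 := Fx.offDiag.image fun p => F.el p.1 p.2 with hT0
  set T2 := T0.image (q * ·) with hT2
  have hT1c : 36 ≤ T1.card := by have := hfib S hSne; rw [← hT1, hSc] at this; omega
  have hT2c : 28 ≤ T2.card := by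
    have := hfib Fx.offDiag fun p hp => (Finset.mem_offDiag.1 hp).2.2
    rw [← hT0, hFd] at this
    rw [hT2, Finset.card_image_of_injective _ (mul_right_injective q)]
    omega
  have hz2 : ∀ g ∈ T2, IsConj z g := by
    intro g hg
    obtain ⟨_, hp, rfl⟩ := Finset.mem_image.1 hg
    obtain ⟨⟨i, j⟩, hij, rfl⟩ := Finset.mem_image.1 hp
    obtain ⟨hi, hj, hne⟩ := Finset.mem_offDiag.1 hij
    have hi' := (Finset.mem_filter.1 hi).2
    have hj' := (Finset.mem_filter.1 hj).2
    have h0 := (Finset.mem_filter.1 hi0).2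
    refine F.isConj _ _ _ _ (Ne.symm h0) (fun h => h0 ?_) (fun h => h0 ?_)
      (fun h => h0 ?_) (fun h => h0 ?_) hne
    · rw [h]; exact hi'
    · rw [h]; exact hj'
    · have h' := congrArg e h
      rw [hee, hi'] at h'
      rw [h, h']
    · have h' := congrArg e h
      rw [hee, hj'] at h'
      rw [h, h']
  have hd : Disjoint T1 T2 := Finset.disjoint_left.2 fun g hg hg' => by
    obtain ⟨p, hp, rfl⟩ := Finset.mem_image.1 hg
    exact F.not_isConj _ _ (hSne p hp) (hz2 _ hg')
  have h1not : (1 : G) ∉ T1 ∪ T2 := fun h => by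
    rcases Finset.mem_union.1 h with h | h
    · obtain ⟨p, hp, hp'⟩ := Finset.mem_image.1 h
      exact F.ne_one _ _ (hSne p hp) hp'
    · exact F.isConj_ne_one (hz2 _ h) rfl
  have hT : 65 ≤ (insert 1 (T1 ∪ T2)).card := by
    rw [Finset.card_insert_of_notMem h1not, Finset.card_union_of_disjoint hd]
    omega
  have hsub : ((insert 1 (T1 ∪ T2) : Finset G) : Set G) ⊆
      (centralizer ({(n : G)} : Set G) ⊓ V : Subgroup G) := by
    intro g hg
    rcases Finset.mem_insert.1 hg with rfl | hg
    · exact one_mem _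
    rcases Finset.mem_union.1 hg with hg | hg
    · obtain ⟨p, hp, rfl⟩ := Finset.mem_image.1 hg
      exact hC p hp
    · obtain ⟨_, hp, rfl⟩ := Finset.mem_image.1 hg
      obtain ⟨p, hp', rfl⟩ := Finset.mem_image.1 hp
      exact mul_mem (hC _ hi0S) (hC p (Finset.mem_union_left _ hp'))
  have hfin : ((centralizer ({(n : G)} : Set G) ⊓ V : Subgroup G) : Set G).Finite :=
    (Set.toFinite (V : Set G)).subset (fun x hx => hx.2)
  have := Set.ncard_le_ncard hsub hfin
  rw [Set.ncard_coe_finset, ← Nat.card_coe_set_eq] at this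
  norm_num
  exact Nat.lt_of_lt_of_le (by omega) this

/-- An elementary subgroup of the point action fixing a point has order at most sixteen. -/
theorem card_le_sixteen (K : Subgroup (Equiv.Perm Ω)) (hK : ∀ k ∈ K, k ∈ F.act.range)
    (h2 : ∀ k ∈ K, k * k = 1) {a : Ω} (ha : ∀ k ∈ K, k a = a) : Nat.card K ≤ 16 := by
  classical
  have : Finite Ω := F.finite
  have := Fintype.ofFinite Ω
  have := Fintype.ofFinite K
  have h24 : Fintype.card Ω = 24 := by rw [← Nat.card_eq_fintype_card, F.card_pts]
  have key := MulAction.sum_card_fixedBy_eq_card_orbits_mul_card_group K Ω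
  have h8 : ∀ k : K, k ≠ 1 → Fintype.card (MulAction.fixedBy Ω k) = 8 := by
    intro k hk
    obtain ⟨n, hn⟩ := hK k k.2
    have h := F.eight n a (by rw [hn]; exact h2 k k.2)
      (by rw [hn]; exact fun h => hk (Subtype.ext h)) (by rw [hn]; exact ha k k.2)
    rw [hn, Nat.card_eq_fintype_card] at h
    rw [← h]
    exact Fintype.card_congr (Equiv.subtypeEquivRight fun x => Iff.rfl)
  have h0 : Fintype.card (MulAction.fixedBy Ω (1 : K)) = 24 := by
    rw [← h24]
    exact Fintype.card_congr
      ((Equiv.subtypeEquivRight fun x => by simp).trans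
        (Equiv.Set.univ Ω))
  rw [← Finset.add_sum_erase _ _ (Finset.mem_univ (1 : K)), h0,
    Finset.sum_congr rfl (fun k hk => h8 k (Finset.mem_erase.1 hk).1), Finset.sum_const,
    Finset.card_erase_of_mem (Finset.mem_univ _), Finset.card_univ, smul_eq_mul] at key
  rw [Nat.card_eq_fintype_card]
  have hpos : 0 < Fintype.card K := Fintype.card_pos
  have hdvd : Fintype.card K ∣ 16 := by
    have h16 : 16 + 8 * Fintype.card K =
        Fintype.card (Quotient (MulAction.orbitRel K Ω)) * Fintype.card K := by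
      omega
    have := Dvd.intro_left _ h16.symm
    exact (Nat.dvd_add_left (Dvd.intro_left 8 rfl)).1 this
  exact Nat.le_of_dvd (by norm_num) hdvd

end H95.J4T.Frame
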