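import Mathlib
import Cfsg.Prelude.Def_JankoFourType

/-!
# Frames on an elementary abelian subgroup of order two to the eleven

A `Frame` records the even cocode structure on `V`: the elements not conjugate to `z` are the
pairs of points, and a sum of two disjoint pairs is conjugate to `z`.
-/

set_option autoImplicit false

open Subgroup

namespace H95.J4T

/-- The cocode structure on `V` with the permutation action of its normalizer. -/
structure Frame {G : Type*} [Group G] (z : G) (V : Subgroup G) (Ω : Type*) where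
  el : Ω → Ω → G
  act : ↥(normalizer (V : Set G)) →* Equiv.Perm Ω
  mem : ∀ a b, el a b ∈ V
  add : ∀ a b c, el a b * el b c = el a c
  ne_one : ∀ a b, a ≠ b → el a b ≠ 1
  not_isConj : ∀ a b, a ≠ b → ¬ IsConj z (el a b)
  isConj : ∀ a b c d, a ≠ b → a ≠ c → a ≠ d → b ≠ c → b ≠ d → c ≠ d →
    IsConj z (el a b * el c d)
  pair : ∀ v ∈ V, v ≠ 1 → ¬ IsConj z v → ∃ a b, a ≠ b ∧ v = el a b
  span : ∀ v ∈ V, ∃ a b c d, v = el a b * el c d
  act_el : ∀ (n : ↥(normalizer (V : Set G))) (a b : Ω),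
    (n : G) * el a b * (n : G)⁻¹ = el (act n a) (act n b)
  eight : ∀ (n : ↥(normalizer (V : Set G))) (a : Ω), act n * act n = 1 → act n ≠ 1 → act n a = a →
    Nat.card {x // act n x = x} = 8
  elem : Cfsg.IsElementaryAbelian 2 V
  card_V : Nat.card V = 2 ^ 11
  z_ne : z ≠ 1
  cent : centralizer (V : Set G) ≤ V
  card_pts : Nat.card Ω = 24

namespace Frame

variable {G : Type*} [Group G] {z : G} {V : Subgroup G} {Ω : Type*} (F : Frame z V Ω)

include F in
theorem sq {v : G} (hv : v ∈ V) : v * v = 1 := by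
  rw [← pow_two]; exact F.elem.2 v hv

include F in
theorem inv_eq {v : G} (hv : v ∈ V) : v⁻¹ = v := inv_eq_of_mul_eq_one_right (F.sq hv)

include F in
theorem comm {v w : G} (hv : v ∈ V) (hw : w ∈ V) : v * w = w * v := by
  obtain ⟨⟨⟨hc⟩⟩, -⟩ := F.elem
  exact congrArg Subtype.val (hc ⟨v, hv⟩ ⟨w, hw⟩)

include F in
theorem finite : Finite Ω := Nat.finite_of_card_ne_zero (by rw [F.card_pts]; norm_num)

theorem el_self (a : Ω) : F.el a a = 1 := by
  have := F.add a a a
  simpa using this

theorem el_symm (a b : Ω) : F.el b a = F.el a b := by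
  have h := F.add a b a
  rw [F.el_self] at h
  rw [← F.inv_eq (F.mem a b)]
  exact (inv_eq_of_mul_eq_one_right h).symm

theorem eq_one_iff {a b : Ω} : F.el a b = 1 ↔ a = b :=
  ⟨fun h => by_contra fun hab => F.ne_one a b hab h, fun h => h ▸ F.el_self a⟩

include F in
theorem isConj_ne_one {v : G} (h : IsConj z v) : v ≠ 1 := fun h1 => by
  subst h1
  exact F.z_ne (isConj_one_left.1 h)

theorem el_inj {a b c d : Ω} (hab : a ≠ b) (h : F.el a b = F.el c d) :
    (c = a ∧ d = b) ∨ (c = b ∧ d = a) := by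
  have hcd : c ≠ d := fun e => F.ne_one a b hab (by rw [h, e, F.el_self])
  have key : ∀ a b c d, F.el a b = F.el c d → a = c → b = d := by
    intro a b c d h e
    subst e
    have h2 := F.add b a d
    rw [F.el_symm a b, h, F.sq (F.mem a d)] at h2
    exact F.eq_one_iff.1 h2.symm
  by_cases h1 : a = c
  · exact Or.inl ⟨h1.symm, (key _ _ _ _ h h1).symm⟩
  by_cases h2 : a = d
  · exact Or.inr ⟨(key a b d c (by rw [h, F.el_symm c d]) h2).symm, h2.symm⟩
  by_cases h3 : b = c
  · exact Or.inr ⟨h3.symm, (key b a c d (by rw [F.el_symm a b, h]) h3).symm⟩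
  by_cases h4 : b = d
  · exact absurd (key b a d c (by rw [F.el_symm a b, h, F.el_symm c d]) h4) h1
  refine absurd ?_ (F.isConj_ne_one (F.isConj a b c d hab h1 h2 h3 h4 hcd))
  rw [h]; exact F.sq (F.mem c d)

/-- The kernel of the action is `V`. -/
theorem act_eq_one_iff (n : ↥(normalizer (V : Set G))) : F.act n = 1 ↔ (n : G) ∈ V := by
  refine ⟨fun h => F.cent (mem_centralizer_iff.2 fun v hv => ?_), fun h => ?_⟩
  · have hel : ∀ a b, (n : G) * F.el a b = F.el a b * n := fun a b => by
      have := F.act_el n a b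
      rw [h] at this
      exact mul_inv_eq_iff_eq_mul.1 this
    obtain ⟨a, b, c, d, rfl⟩ := F.span v hv
    calc F.el a b * F.el c d * (n : G) = F.el a b * (n * F.el c d) := by rw [mul_assoc, hel c d]
      _ = (n : G) * F.el a b * F.el c d := by rw [← mul_assoc, hel a b]
      _ = (n : G) * (F.el a b * F.el c d) := mul_assoc _ _ _
  · refine Equiv.ext fun a => ?_
    have : Finite Ω := F.finite
    have := Fintype.ofFinite Ω
    have h24 : Fintype.card Ω = 24 := by rw [← Nat.card_eq_fintype_card, F.card_pts]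
    show F.act n a = a
    have hfix : ∀ a b, F.el (F.act n a) (F.act n b) = F.el a b := fun a b => by
      rw [← F.act_el, F.comm h (F.mem a b), mul_inv_cancel_right]
    classical
    obtain ⟨b, hb⟩ := Finset.exists_mem_notMem_of_card_lt_card (s := ({a, F.act n a} : Finset Ω))
      (t := Finset.univ) (lt_of_le_of_lt Finset.card_le_two (by rw [Finset.card_univ, h24]; norm_num))
    simp only [Finset.mem_insert, Finset.mem_singleton, not_or] at hb
    rcases F.el_inj (Ne.symm hb.2.1) (hfix a b).symm with ⟨h1, -⟩ | ⟨h1, -⟩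
    · exact h1
    · exact absurd h1 (Ne.symm hb.2.2)

/-- A subgroup of `V` without conjugates of `z` lies in a triangle. -/
theorem triangle (D : Set G) (hmul : ∀ u ∈ D, ∀ v ∈ D, u * v ∈ D) (hDV : ∀ u ∈ D, u ∈ V)
    (hno : ∀ u ∈ D, ¬ IsConj z u) {a b : Ω} (hab : a ≠ b) (ht : F.el a b ∈ D) :
    ∃ c, c ≠ a ∧ c ≠ b ∧ ∀ u ∈ D, u = 1 ∨ u = F.el a b ∨ u = F.el a c ∨ u = F.el b c := by
  classical
  have : Finite Ω := F.finite
  have := Fintype.ofFinite Ω
  have h24 : Fintype.card Ω = 24 := by rw [← Nat.card_eq_fintype_card, F.card_pts]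
  obtain ⟨c0, hc0⟩ := Finset.exists_mem_notMem_of_card_lt_card (s := ({a, b} : Finset Ω))
    (t := Finset.univ) (lt_of_le_of_lt Finset.card_le_two (by rw [Finset.card_univ, h24]; norm_num))
  simp only [Finset.mem_insert, Finset.mem_singleton, not_or] at hc0
  -- every element of `D` meets the pair `a b`
  have meet : ∀ u ∈ D, u = 1 ∨ u = F.el a b ∨ ∃ c, c ≠ a ∧ c ≠ b ∧
      F.el a c ∈ D ∧ F.el b c ∈ D ∧ (u = F.el a c ∨ u = F.el b c) := by
    intro u hu
    rcases eq_or_ne u 1 with h | h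
    · exact Or.inl h
    obtain ⟨c, d, hcd, rfl⟩ := F.pair u (hDV u hu) h (hno u hu)
    have side : ∀ e, F.el a e ∈ D → e ≠ a → e ≠ b →
        F.el b e ∈ D := fun e he _ _ => by
      have := hmul _ ht _ he
      rwa [← F.el_symm a b, F.add] at this
    have side' : ∀ e, F.el b e ∈ D → F.el a e ∈ D := fun e he => by
      have := hmul _ ht _ he
      rwa [F.add] at this
    by_cases h1 : c = a
    · subst h1
      by_cases h2 : d = b
      · exact Or.inr (Or.inl (by rw [h2]))
      exact Or.inr (Or.inr ⟨d, hcd.symm, h2, hu, side d hu hcd.symm h2, Or.inl rfl⟩)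
    by_cases h2 : c = b
    · subst h2
      by_cases h3 : d = a
      · exact Or.inr (Or.inl (by rw [h3, F.el_symm]))
      exact Or.inr (Or.inr ⟨d, h3, hcd.symm, side' d hu, hu, Or.inr rfl⟩)
    by_cases h3 : d = a
    · subst h3
      rw [← F.el_symm c d] at hu
      exact Or.inr (Or.inr ⟨c, h1, h2, hu, side c hu h1 h2, Or.inl (F.el_symm d c)⟩)
    by_cases h4 : d = b
    · subst h4
      rw [← F.el_symm c d] at hu
      exact Or.inr (Or.inr ⟨c, h1, h2, side' c hu, hu, Or.inr (F.el_symm d c)⟩)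
    exact absurd (F.isConj a b c d hab (Ne.symm h1) (Ne.symm h3) (Ne.symm h2) (Ne.symm h4) hcd)
      (hno _ (hmul _ ht _ hu))
  by_cases hex : ∃ c, c ≠ a ∧ c ≠ b ∧ F.el a c ∈ D
  · obtain ⟨c, hca, hcb, hc⟩ := hex
    refine ⟨c, hca, hcb, fun u hu => ?_⟩
    rcases meet u hu with h | h | ⟨e, hea, heb, -, hbe, he⟩
    · exact Or.inl h
    · exact Or.inr (Or.inl h)
    by_cases hec : e = c
    · subst hec
      exact Or.inr (Or.inr he)
    exact absurd (F.isConj a c b e hca.symm hab hea.symm hcb (Ne.symm hec) heb.symm)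
      (hno _ (hmul _ hc _ hbe))
  · refine ⟨c0, hc0.2.1, hc0.2.2, fun u hu => ?_⟩
    rcases meet u hu with h | h | ⟨e, hea, heb, hae, -⟩
    · exact Or.inl h
    · exact Or.inr (Or.inl h)
    · exact absurd ⟨e, hea, heb, hae⟩ hex

include F in
theorem exists_isConj (D : Set G) (hmul : ∀ u ∈ D, ∀ v ∈ D, u * v ∈ D) (hDV : ∀ u ∈ D, u ∈ V)
    (hcard : 4 < D.ncard) : ∃ u ∈ D, IsConj z u := by
  classical
  by_contra hc
  push Not at hc
  have hD1 : ∃ u ∈ D, u ≠ 1 := by
    by_contra h
    push Not at h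
    have : D.ncard ≤ ({1} : Set G).ncard := Set.ncard_le_ncard (fun u hu => h u hu) (Set.toFinite _)
    rw [Set.ncard_singleton] at this
    omega
  obtain ⟨u, hu, hu1⟩ := hD1
  obtain ⟨a, b, hab, rfl⟩ := F.pair u (hDV u hu) hu1 (hc u hu)
  obtain ⟨c, -, -, h⟩ := F.triangle D hmul hDV hc hab hu
  have h4 : D.ncard ≤ ({1, F.el a b, F.el a c, F.el b c} : Set G).ncard :=
    Set.ncard_le_ncard (fun v hv => by simpa using h v hv) (Set.toFinite _)
  have : ({1, F.el a b, F.el a c, F.el b c} : Set G).ncard ≤ 4 :=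
    ((Set.ncard_insert_le _ _).trans (Nat.succ_le_succ ((Set.ncard_insert_le _ _).trans
      (Nat.succ_le_succ ((Set.ncard_insert_le _ _).trans (Nat.succ_le_succ
        (Set.ncard_singleton _).le))))))
  omega

end Frame

end H95.J4T
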